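import Mathlib

universe u

namespace Groth.Agent.H5UnivHomeo

open Polynomial

/-- If `(T - y)^n` has coefficients in `K`, then `y` is purely inseparable over `K`. -/
theorem mem_perfectClosure_of_map_eq {K L : Type*} [Field K] [Field L] [Algebra K L]
    (y : L) (n : ℕ) (hn : 0 < n) (P : K[X]) (hP : P.map (algebraMap K L) = (X - C y) ^ n) :
    y ∈ perfectClosure K L := by
  rw [mem_perfectClosure_iff_natSepDegree_eq_one]
  have hP0 : P ≠ 0 := by
    rintro rfl
    rw [Polynomial.map_zero] at hP
    exact pow_ne_zero n (X_sub_C_ne_zero y) hP.symm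
  have hroot : aeval y P = 0 := by
    rw [aeval_def, ← eval_map, hP, eval_pow, eval_sub, eval_X, eval_C, sub_self,
      zero_pow hn.ne']
  have hdvd : minpoly K y ∣ P := minpoly.dvd K y hroot
  have hsep : P.natSepDegree = 1 := by
    rw [← natSepDegree_map L P (algebraMap K L), hP, natSepDegree_X_sub_C_pow, if_neg hn.ne']
  have hle := natSepDegree_le_of_dvd _ _ hdvd hP0
  rw [hsep] at hle
  have hint : IsIntegral K y := ⟨P * C (P.leadingCoeff)⁻¹, monic_mul_leadingCoeff_inv hP0, by
    rw [← aeval_def, map_mul, hroot, zero_mul]⟩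
  have hpos : 0 < (minpoly K y).natSepDegree := by
    rw [Nat.pos_iff_ne_zero, natSepDegree_ne_zero_iff]
    exact (minpoly.natDegree_pos hint).ne'
  omega

section residue

variable {R S : Type u} [CommRing R] [CommRing S] [Algebra R S]

theorem isPurelyInseparable_residueField (G : Set S) (hG : Algebra.adjoin R G = ⊤)
    (hpow : ∀ x ∈ G, ∃ (n : ℕ) (P : Polynomial R), 0 < n ∧
      Polynomial.map (algebraMap R S) P = (Polynomial.X - Polynomial.C x) ^ n)
    (q : Ideal S) [q.IsPrime] (p : Ideal R) [p.IsPrime] [q.LiesOver p] :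
    @IsPurelyInseparable p.ResidueField q.ResidueField _ _
      (Ideal.ResidueField.mapₐ p q (Algebra.ofId R S) (q.over_def p)).toRingHom.toAlgebra := by
  letI : Algebra p.ResidueField q.ResidueField :=
    (Ideal.ResidueField.mapₐ p q (Algebra.ofId R S) (q.over_def p)).toRingHom.toAlgebra
  have hcomm : ∀ r : R, algebraMap p.ResidueField q.ResidueField (algebraMap R p.ResidueField r) =
      algebraMap S q.ResidueField (algebraMap R S r) := by
    intro r
    show (Ideal.ResidueField.mapₐ p q (Algebra.ofId R S) (q.over_def p))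
      (algebraMap R p.ResidueField r) = _
    rw [AlgHom.commutes, IsScalarTower.algebraMap_apply R S q.ResidueField]
  rw [isPurelyInseparable_iff_perfectClosure_eq_top, eq_top_iff]
  -- the image of S
  have hS : ∀ s : S, algebraMap S q.ResidueField s ∈ perfectClosure p.ResidueField q.ResidueField := by
    intro s
    have hs : s ∈ Algebra.adjoin R G := by rw [hG]; trivial
    induction hs using Algebra.adjoin_induction with
    | mem x hx =>
      obtain ⟨n, P, hn, hP⟩ := hpow x hx
      apply mem_perfectClosure_of_map_eq _ n hn (P.map (algebraMap R p.ResidueField))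
      rw [Polynomial.map_map]
      have : (algebraMap p.ResidueField q.ResidueField).comp (algebraMap R p.ResidueField) =
          (algebraMap S q.ResidueField).comp (algebraMap R S) := RingHom.ext hcomm
      rw [this, ← Polynomial.map_map, hP, Polynomial.map_pow, Polynomial.map_sub, map_X, map_C]
    | algebraMap r =>
      rw [← hcomm]
      exact IntermediateField.algebraMap_mem _ _
    | add x y _ _ hx hy => rw [map_add]; exact add_mem hx hy
    | mul x y _ _ hx hy => rw [map_mul]; exact mul_mem hx hy
  intro z _
  obtain ⟨a, b, -, rfl⟩ := IsFractionRing.div_surjective (A := S ⧸ q) z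
  obtain ⟨a, rfl⟩ := Ideal.Quotient.mk_surjective a
  obtain ⟨b, rfl⟩ := Ideal.Quotient.mk_surjective b
  have e1 : ∀ s : S, algebraMap (S ⧸ q) q.ResidueField (Ideal.Quotient.mk q s) =
      algebraMap S q.ResidueField s := fun s => by
    rw [← Ideal.Quotient.algebraMap_eq, ← IsScalarTower.algebraMap_apply]
  rw [e1, e1]
  exact div_mem (hS a) (hS b)

end residue

end Groth.Agent.H5UnivHomeo
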