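import Mathlib
import Groth.Agent.Lib.Helper5.UnivHomeo.A

universe u

namespace Groth.Agent.H5UnivHomeo

open Polynomial PrimeSpectrum

variable {R S : Type u} [CommRing R] [CommRing S] [Algebra R S]

theorem isIntegral_algebraMap (G : Set S) (hG : Algebra.adjoin R G = ⊤)
    (hpow : ∀ x ∈ G, ∃ (n : ℕ) (P : Polynomial R), 0 < n ∧
      Polynomial.map (algebraMap R S) P = (Polynomial.X - Polynomial.C x) ^ n) :
    (algebraMap R S).IsIntegral := by
  intro s
  have hs : s ∈ Algebra.adjoin R G := by rw [hG]; trivial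
  induction hs using Algebra.adjoin_induction with
  | mem x hx =>
    obtain ⟨n, P, hn, hP⟩ := hpow x hx
    rcases subsingleton_or_nontrivial S with hS | hS
    · exact ⟨X, monic_X, Subsingleton.elim _ _⟩
    have hl : (X - C x) ^ n ∈ Polynomial.lifts (algebraMap R S) :=
      (Polynomial.mem_lifts _).2 ⟨P, hP⟩
    obtain ⟨Q, hQ, -, hQm⟩ := Polynomial.lifts_and_degree_eq_and_monic hl
      ((monic_X_sub_C x).pow n)
    refine ⟨Q, hQm, ?_⟩
    rw [← eval_map, hQ, eval_pow, eval_sub, eval_X, eval_C, sub_self, zero_pow hn.ne']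
  | algebraMap r => exact RingHom.isIntegralElem_map _
  | add x y _ _ hx hy => exact RingHom.IsIntegralElem.add _ hx hy
  | mul x y _ _ hx hy => exact RingHom.IsIntegralElem.mul _ hx hy

theorem comap_injective (G : Set S) (hG : Algebra.adjoin R G = ⊤)
    (hpow : ∀ x ∈ G, ∃ (n : ℕ) (P : Polynomial R), 0 < n ∧
      Polynomial.map (algebraMap R S) P = (Polynomial.X - Polynomial.C x) ^ n) :
    Function.Injective (PrimeSpectrum.comap (algebraMap R S)) := by
  intro q q' hqq
  set p := PrimeSpectrum.comap (algebraMap R S) q with hp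
  haveI : q.asIdeal.LiesOver p.asIdeal := ⟨rfl⟩
  haveI : q'.asIdeal.LiesOver p.asIdeal := ⟨by rw [hqq]; rfl⟩
  let K := p.asIdeal.ResidueField
  let L := q.asIdeal.ResidueField
  let L' := q'.asIdeal.ResidueField
  letI algL : Algebra K L :=
    (Ideal.ResidueField.mapₐ p.asIdeal q.asIdeal (Algebra.ofId R S)
      (q.asIdeal.over_def p.asIdeal)).toRingHom.toAlgebra
  letI algL' : Algebra K L' :=
    (Ideal.ResidueField.mapₐ p.asIdeal q'.asIdeal (Algebra.ofId R S)
      (q'.asIdeal.over_def p.asIdeal)).toRingHom.toAlgebra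
  have hcomm : ∀ r : R, algebraMap K L (algebraMap R K r) =
      algebraMap S L (algebraMap R S r) := by
    intro r
    show (Ideal.ResidueField.mapₐ p.asIdeal q.asIdeal (Algebra.ofId R S) _)
      (algebraMap R p.asIdeal.ResidueField r) = _
    rw [AlgHom.commutes, IsScalarTower.algebraMap_apply R S q.asIdeal.ResidueField]
  have hcomm' : ∀ r : R, algebraMap K L' (algebraMap R K r) =
      algebraMap S L' (algebraMap R S r) := by
    intro r
    show (Ideal.ResidueField.mapₐ p.asIdeal q'.asIdeal (Algebra.ofId R S) _)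
      (algebraMap R p.asIdeal.ResidueField r) = _
    rw [AlgHom.commutes, IsScalarTower.algebraMap_apply R S q'.asIdeal.ResidueField]
  haveI hpi : IsPurelyInseparable K L := isPurelyInseparable_residueField G hG hpow q.asIdeal p.asIdeal
  haveI : Algebra.IsAlgebraic K L := IsPurelyInseparable.isAlgebraic K L
  let Ω := AlgebraicClosure L'
  letI : Algebra K Ω := ((algebraMap L' Ω).comp (algebraMap K L')).toAlgebra
  let ι : L →ₐ[K] Ω := IsAlgClosed.lift
  let θ : S →+* Ω := ι.toRingHom.comp (algebraMap S L)
  let θ' : S →+* Ω := (algebraMap L' Ω).comp (algebraMap S L')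
  have hR : ∀ r : R, θ (algebraMap R S r) = θ' (algebraMap R S r) := by
    intro r
    show ι (algebraMap S L (algebraMap R S r)) = algebraMap L' Ω (algebraMap S L' (algebraMap R S r))
    rw [← hcomm, ← hcomm', AlgHom.commutes]
    rfl
  have hGeq : ∀ x ∈ G, θ x = θ' x := by
    intro x hx
    obtain ⟨n, P, hn, hP⟩ := hpow x hx
    have h1 : (P.map (algebraMap R S)).map θ = (X - C (θ x)) ^ n := by
      rw [hP, Polynomial.map_pow, Polynomial.map_sub, map_X, map_C]
    have h2 : (P.map (algebraMap R S)).map θ' = (X - C (θ' x)) ^ n := by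
      rw [hP, Polynomial.map_pow, Polynomial.map_sub, map_X, map_C]
    have h3 : (P.map (algebraMap R S)).map θ = (P.map (algebraMap R S)).map θ' := by
      rw [Polynomial.map_map, Polynomial.map_map]
      congr 1
      exact RingHom.ext hR
    rw [h1, h2] at h3
    have h4 := congrArg (Polynomial.eval (θ x)) h3
    rw [eval_pow, eval_pow, eval_sub, eval_sub, eval_X, eval_C, eval_C, sub_self,
      zero_pow hn.ne'] at h4
    exact sub_eq_zero.1 (pow_eq_zero_iff hn.ne' |>.1 h4.symm)
  have hall : ∀ s : S, θ s = θ' s := by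
    intro s
    have hs : s ∈ Algebra.adjoin R G := by rw [hG]; trivial
    induction hs using Algebra.adjoin_induction with
    | mem x hx => exact hGeq x hx
    | algebraMap r => exact hR r
    | add x y _ _ hx hy => rw [map_add, map_add, hx, hy]
    | mul x y _ _ hx hy => rw [map_mul, map_mul, hx, hy]
  ext s
  have e1 : s ∈ q.asIdeal ↔ θ s = 0 := by
    show _ ↔ ι (algebraMap S L s) = 0
    rw [map_eq_zero_iff ι ι.toRingHom.injective, Ideal.algebraMap_residueField_eq_zero]
  have e2 : s ∈ q'.asIdeal ↔ θ' s = 0 := by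
    show _ ↔ algebraMap L' Ω (algebraMap S L' s) = 0
    rw [map_eq_zero_iff _ (algebraMap L' Ω).injective, Ideal.algebraMap_residueField_eq_zero]
  rw [e1, e2, hall]

theorem main
    (hker : ∀ r : R, algebraMap R S r = 0 → IsNilpotent r) (G : Set S) (hG : Algebra.adjoin R G = ⊤)
    (hpow : ∀ x ∈ G, ∃ (n : ℕ) (P : Polynomial R), 0 < n ∧
      Polynomial.map (algebraMap R S) P = (Polynomial.X - Polynomial.C x) ^ n) :
    IsHomeomorph (PrimeSpectrum.comap (algebraMap R S)) ∧
      ∀ (q : Ideal S) [q.IsPrime] (p : Ideal R) [p.IsPrime] [q.LiesOver p],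
        @IsPurelyInseparable p.ResidueField q.ResidueField _ _
          (Ideal.ResidueField.mapₐ p q (Algebra.ofId R S) (q.over_def p)).toRingHom.toAlgebra := by
  refine ⟨?_, fun q _ p _ _ => isPurelyInseparable_residueField G hG hpow q p⟩
  have hint := isIntegral_algebraMap G hG hpow
  have hinj := comap_injective G hG hpow
  have hkerle : RingHom.ker (algebraMap R S) ≤ nilradical R := fun r hr =>
    (mem_nilradical).2 (hker r hr)
  have hintk : (algebraMap R S).kerLift.IsIntegral := by
    have : (algebraMap R S) = (algebraMap R S).kerLift.comp (Ideal.Quotient.mk _) := by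
      ext r; rfl
    rw [this] at hint
    exact RingHom.IsIntegral.tower_top _ _ hint
  have hsurj : Function.Surjective (PrimeSpectrum.comap (algebraMap R S)) :=
    (comap_quotientMk_bijective_of_le_nilradical hkerle).2.comp
      (hintk.comap_surjective (algebraMap R S).kerLift_injective)
  have hclosed := PrimeSpectrum.isClosedMap_comap_of_isIntegral (algebraMap R S) hint
  exact (isHomeomorph_iff_continuous_isClosedMap_bijective).2
    ⟨PrimeSpectrum.continuous_comap (algebraMap R S), hclosed, hinj, hsurj⟩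

end Groth.Agent.H5UnivHomeo
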